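import Cfsg.Agent.Lib.Helper28.TCCheck
import Cfsg.Agent.Lib.Helper28.Fi22Ord.Sub

set_option autoImplicit false
set_option linter.unusedVariables false

namespace Cfsg.Agent.Lib.Helper28.Fi22Ord.C27

open Cfsg.Agent.Lib.Helper28.Fi22Sub.P6 (Gen)
open Cfsg.Agent.Lib.Helper28.TC

noncomputable section

def hotA_c0 : ℕ := 0x0
def hotA : ℕ := hotA_c0
def coldA_c0 : ℕ := 0x0
def coldA : ℕ := coldA_c0
def treeT_c0 : ℕ := 0x1a46726c6097baab654ea29d15299232242267c0cc7818e02da65304a5892a221243a1463a886410aa190c3190421042000000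
def treeT : ℕ := treeT_c0
def rowT_c0 : ℕ := 0x1a6585d65544d24503ce34c2ca2481c61440c2040
def rowT : ℕ := rowT_c0

end

end Cfsg.Agent.Lib.Helper28.Fi22Ord.C27
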