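import Cfsg.Agent.Lib.Helper28.TCCheck
import Cfsg.Agent.Lib.Helper28.Fi22Ord.Sub

set_option autoImplicit false
set_option linter.unusedVariables false

namespace Cfsg.Agent.Lib.Helper28.Fi22Ord.C27

open Cfsg.Agent.Lib.Helper28.Fi22Sub.P6 (Gen)
open Cfsg.Agent.Lib.Helper28.TC

noncomputable section

def hotE0_c0 : ℕ := 0x279b986a4998b621557e5a117734dc946745992583548c4d395d0513cf0b3728c092a209071e1864514103830704182
def hotE0 : ℕ := hotE0_c0
def coldE0_c0 : ℕ := 0x190317600c3d7030b540c4c00052480c1d203130001290030b000108c030f0000c80002e280c3c000000000008030b1c0c2c60313100c4c403170c0c4c3030f080c2c0030700000800000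
def coldE0 : ℕ := coldE0_c0
def tfT0_c0 : ℕ := 0x6b38bd2b694e1162daf72928398a418801
def tfT0 : ℕ := tfT0_c0

end

end Cfsg.Agent.Lib.Helper28.Fi22Ord.C27
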