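import Cfsg.Agent.Lib.Helper28.TCCheck
import Cfsg.Agent.Lib.Helper28.Fi22Ord.Sub

set_option autoImplicit false
set_option linter.unusedVariables false

namespace Cfsg.Agent.Lib.Helper28.Fi22Ord.C27

open Cfsg.Agent.Lib.Helper28.Fi22Sub.P6 (Gen)
open Cfsg.Agent.Lib.Helper28.TC

noncomputable section

def hotE1_c0 : ℕ := 0x27db996a4d98d5e3187d51e157c59b53684984e59414cf604518b412914d4030c492b209471f1868515103420c0c041
def hotE1 : ℕ := hotE1_c0
def coldE1_c0 : ℕ := 0x19032f600c9d603230001693032b0001392032b000000d03233c0c9c0003630081cb0207280c9c0002a000098000000000006032b100cac4032f0c0cac30327040c8c0000600000000193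
def coldE1 : ℕ := coldE1_c0
def tfT1_c0 : ℕ := 0x6b38b5e74aca2d7ba0a4b168398a418440
def tfT1 : ℕ := tfT1_c0

end

end Cfsg.Agent.Lib.Helper28.Fi22Ord.C27
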