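import Cfsg.Agent.Lib.Helper28.TCCheck
import Cfsg.Agent.Lib.Helper28.Fi22Ord.Sub

set_option autoImplicit false
set_option linter.unusedVariables false

namespace Cfsg.Agent.Lib.Helper28.Fi22Ord.C27

open Cfsg.Agent.Lib.Helper28.Fi22Sub.P6 (Gen)
open Cfsg.Agent.Lib.Helper28.TC

noncomputable section

def hotE2_c0 : ℕ := 0x281b9a6a45890661977f59e557149b117051ad35a4150f4e391cd4230ec93620e8b352898720186c5130c4840808081
def hotE2 : ℕ := hotE2_c0
def coldE2_c0 : ℕ := 0x1903475c0cfc0005e000001103434c088d00343000118000420000000000030082cb020b200cfca022324088c000220000780000000000040347080d0c2033f0000280000000082c00197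
def coldE2 : ℕ := coldE2_c0
def tfT2_c0 : ℕ := 0x6b37c5ab48c2727b9ac5a0ea498a410c20
def tfT2 : ℕ := tfT2_c0

end

end Cfsg.Agent.Lib.Helper28.Fi22Ord.C27
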