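import Cfsg.Agent.Lib.Helper28.TCCheck
import Cfsg.Agent.Lib.Helper28.Fi22Ord.Sub

set_option autoImplicit false
set_option linter.unusedVariables false

namespace Cfsg.Agent.Lib.Helper28.Fi22Ord.C27

open Cfsg.Agent.Lib.Helper28.Fi22Sub.P6 (Gen)
open Cfsg.Agent.Lib.Helper28.TC

noncomputable section

def hotE3_c0 : ℕ := 0x285b976659a8e621d78059e957451b9365417cd644954f4c2d79143312ce3828c892d189c72c2060417143c309080c1
def hotE3 : ℕ := hotE3_c0
def coldE3_c0 : ℕ := 0x18035f00018800000540d6d3035b4c089d2035b4408fd0023f0000f800032000000b020f0000a80000024089c000001c08fc6035b0000583035f0c0d6c0000e0000001022700083c0019b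
def coldE3 : ℕ := coldE3_c0
def tfT3_c0 : ℕ := 0x6b19bdab49c9ec8b9505b528298e320820
def tfT3 : ℕ := tfT3_c0

end

end Cfsg.Agent.Lib.Helper28.Fi22Ord.C27
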