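import Cfsg.Agent.Lib.Helper28.TCCheck
import Cfsg.Agent.Lib.Helper28.Fi22Ord.Sub

set_option autoImplicit false
set_option linter.unusedVariables false

namespace Cfsg.Agent.Lib.Helper28.Fi22Ord.C27

open Cfsg.Agent.Lib.Helper28.Fi22Sub.P6 (Gen)
open Cfsg.Agent.Lib.Helper28.TC

noncomputable section

def hotE4_c0 : ℕ := 0x275a9c6e5598f622178159ed57551bd36a498d15d3d710503928c4934fca3e2cd0833248c5211888716104430b08101
def hotE4 : ℕ := hotE4_c0
def coldE4_c0 : ℕ := 0x66000001702475409dd302774c08bd2027744091d002473c097cc025f0000e8c021728097c0002e2808bc0002620091c0001e1809dc000120c09dc0000008091c1022f00085c0019f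
def coldE4 : ℕ := coldE4_c0
def tfT4_c0 : ℕ := 0x6758bdab49ca3073dab62547410a618820
def tfT4 : ℕ := tfT4_c0

end

end Cfsg.Agent.Lib.Helper28.Fi22Ord.C27
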