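import Cfsg.Agent.Lib.Helper28.TCCheck
import Cfsg.Agent.Lib.Helper28.Fi22Ord.Sub

set_option autoImplicit false
set_option linter.unusedVariables false

namespace Cfsg.Agent.Lib.Helper28.Fi22Ord.C27

open Cfsg.Agent.Lib.Helper28.Fi22Sub.P6 (Gen)
open Cfsg.Agent.Lib.Helper28.TC

noncomputable section

def hotE5_c0 : ℕ := 0x289b9b6a5198a5a0d48961dd3825dd9569498915b4158f4f3920d4430f4b3928bc72914b891d10a081c184030a08141
def hotE5 : ℕ := hotE5_c0
def coldE5_c0 : ℕ := 0x19037760096d702430001580004e0000000004a000000000003c096cc025b30084cb021328096ca022b2408ac802431c090c0001a00004800000000038000000000001022b00084c001a3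
def coldE5 : ℕ := coldE5_c0
def tfT5_c0 : ℕ := 0x6b38acef2b52307b9ac5a9262206728820
def tfT5 : ℕ := tfT5_c0

end

end Cfsg.Agent.Lib.Helper28.Fi22Ord.C27
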