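import Cfsg.Agent.Lib.Helper28.Fi22Ord.C27.DataE0
import Cfsg.Agent.Lib.Helper28.Fi22Ord.C27.DataE1
import Cfsg.Agent.Lib.Helper28.Fi22Ord.C27.DataE2
import Cfsg.Agent.Lib.Helper28.Fi22Ord.C27.DataE3
import Cfsg.Agent.Lib.Helper28.Fi22Ord.C27.DataE4
import Cfsg.Agent.Lib.Helper28.Fi22Ord.C27.DataE5
import Cfsg.Agent.Lib.Helper28.Fi22Ord.C27.DataA

set_option autoImplicit false
set_option linter.unusedVariables false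

namespace Cfsg.Agent.Lib.Helper28.Fi22Ord.C27

open Cfsg.Agent.Lib.Helper28.Fi22Sub.P6 (Gen)
open Cfsg.Agent.Lib.Helper28.TC

noncomputable section

/-- the generators -/
def gens : List Gen := [Gen.b, Gen.c, Gen.d, Gen.e, Gen.f, Gen.h]

theorem mem_gens (x : Gen) : x ∈ gens := by cases x <;> decide

/-- decode a generator -/
def genOf (c : ℕ) : Gen := Nat.rec (motive := fun _ => Gen) Gen.b (fun c _ => Nat.rec (motive := fun _ => Gen) Gen.c (fun c _ => Nat.rec (motive := fun _ => Gen) Gen.d (fun c _ => Nat.rec (motive := fun _ => Gen) Gen.e (fun c _ => Nat.rec (motive := fun _ => Gen) Gen.f (fun c _ => Gen.h) c) c) c) c) c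

def hotE (x : Gen) : ℕ := Gen.rec (motive := fun _ => ℕ) hotE0 hotE1 hotE2 hotE3 hotE4 hotE5 x
def coldE (x : Gen) : ℕ := Gen.rec (motive := fun _ => ℕ) coldE0 coldE1 coldE2 coldE3 coldE4 coldE5 x
def tfT (x : Gen) : ℕ := Gen.rec (motive := fun _ => ℕ) tfT0 tfT1 tfT2 tfT3 tfT4 tfT5 x

def entH (x : Gen) (u : ℕ) : ℕ := look (hotE x) 14 16383 u
def jEc (x : Gen) (u : ℕ) : ℕ := look (coldE x) 22 4194303 u
def alH (k : ℕ) : ℕ := look hotA 14 16383 k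
def jAc (k : ℕ) : ℕ := look coldA 48 281474976710655 k
def treeE (k : ℕ) : ℕ := look treeT 15 32767 k
/-- the final coset table -/
def tf (x : Gen) (i : ℕ) : ℕ := look (tfT x) 5 31 i
/-- the final coset number of a row -/
def fin (k : ℕ) : ℕ := Nat.shiftRight (treeE k) 10
/-- the designated row of a final coset -/
def rowOf (i : ℕ) : ℕ := look rowT 6 63 i

/-- the cycle words with their reverses and lengths -/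
def cycs : List (List Gen × List Gen × ℕ) := [
  ([Gen.b, Gen.b], [Gen.b, Gen.b], 2),
  ([Gen.b, Gen.c, Gen.b, Gen.c, Gen.b, Gen.c], [Gen.c, Gen.b, Gen.c, Gen.b, Gen.c, Gen.b], 6),
  ([Gen.b, Gen.d, Gen.b, Gen.d], [Gen.d, Gen.b, Gen.d, Gen.b], 4),
  ([Gen.b, Gen.e, Gen.b, Gen.e], [Gen.e, Gen.b, Gen.e, Gen.b], 4),
  ([Gen.b, Gen.h, Gen.b, Gen.h], [Gen.h, Gen.b, Gen.h, Gen.b], 4),
  ([Gen.b, Gen.f, Gen.b, Gen.f], [Gen.f, Gen.b, Gen.f, Gen.b], 4),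
  ([Gen.c, Gen.b, Gen.c, Gen.b, Gen.c, Gen.b], [Gen.b, Gen.c, Gen.b, Gen.c, Gen.b, Gen.c], 6),
  ([Gen.c, Gen.c], [Gen.c, Gen.c], 2),
  ([Gen.c, Gen.d, Gen.c, Gen.d, Gen.c, Gen.d], [Gen.d, Gen.c, Gen.d, Gen.c, Gen.d, Gen.c], 6),
  ([Gen.c, Gen.e, Gen.c, Gen.e], [Gen.e, Gen.c, Gen.e, Gen.c], 4),
  ([Gen.c, Gen.h, Gen.c, Gen.h], [Gen.h, Gen.c, Gen.h, Gen.c], 4),
  ([Gen.c, Gen.f, Gen.c, Gen.f], [Gen.f, Gen.c, Gen.f, Gen.c], 4),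
  ([Gen.d, Gen.b, Gen.d, Gen.b], [Gen.b, Gen.d, Gen.b, Gen.d], 4),
  ([Gen.d, Gen.c, Gen.d, Gen.c, Gen.d, Gen.c], [Gen.c, Gen.d, Gen.c, Gen.d, Gen.c, Gen.d], 6),
  ([Gen.d, Gen.d], [Gen.d, Gen.d], 2),
  ([Gen.d, Gen.e, Gen.d, Gen.e, Gen.d, Gen.e], [Gen.e, Gen.d, Gen.e, Gen.d, Gen.e, Gen.d], 6),
  ([Gen.d, Gen.h, Gen.d, Gen.h, Gen.d, Gen.h], [Gen.h, Gen.d, Gen.h, Gen.d, Gen.h, Gen.d], 6),
  ([Gen.d, Gen.f, Gen.d, Gen.f], [Gen.f, Gen.d, Gen.f, Gen.d], 4),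
  ([Gen.e, Gen.b, Gen.e, Gen.b], [Gen.b, Gen.e, Gen.b, Gen.e], 4),
  ([Gen.e, Gen.c, Gen.e, Gen.c], [Gen.c, Gen.e, Gen.c, Gen.e], 4),
  ([Gen.e, Gen.d, Gen.e, Gen.d, Gen.e, Gen.d], [Gen.d, Gen.e, Gen.d, Gen.e, Gen.d, Gen.e], 6),
  ([Gen.e, Gen.e], [Gen.e, Gen.e], 2),
  ([Gen.e, Gen.h, Gen.e, Gen.h], [Gen.h, Gen.e, Gen.h, Gen.e], 4),
  ([Gen.e, Gen.f, Gen.e, Gen.f, Gen.e, Gen.f], [Gen.f, Gen.e, Gen.f, Gen.e, Gen.f, Gen.e], 6),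
  ([Gen.h, Gen.b, Gen.h, Gen.b], [Gen.b, Gen.h, Gen.b, Gen.h], 4),
  ([Gen.h, Gen.c, Gen.h, Gen.c], [Gen.c, Gen.h, Gen.c, Gen.h], 4),
  ([Gen.h, Gen.d, Gen.h, Gen.d, Gen.h, Gen.d], [Gen.d, Gen.h, Gen.d, Gen.h, Gen.d, Gen.h], 6),
  ([Gen.h, Gen.e, Gen.h, Gen.e], [Gen.e, Gen.h, Gen.e, Gen.h], 4),
  ([Gen.h, Gen.h], [Gen.h, Gen.h], 2),
  ([Gen.h, Gen.f, Gen.h, Gen.f], [Gen.f, Gen.h, Gen.f, Gen.h], 4),
  ([Gen.f, Gen.b, Gen.f, Gen.b], [Gen.b, Gen.f, Gen.b, Gen.f], 4),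
  ([Gen.f, Gen.c, Gen.f, Gen.c], [Gen.c, Gen.f, Gen.c, Gen.f], 4),
  ([Gen.f, Gen.d, Gen.f, Gen.d], [Gen.d, Gen.f, Gen.d, Gen.f], 4),
  ([Gen.f, Gen.e, Gen.f, Gen.e, Gen.f, Gen.e], [Gen.e, Gen.f, Gen.e, Gen.f, Gen.e, Gen.f], 6),
  ([Gen.f, Gen.h, Gen.f, Gen.h], [Gen.h, Gen.f, Gen.h, Gen.f], 4),
  ([Gen.f, Gen.f], [Gen.f, Gen.f], 2),
  ([Gen.c], [Gen.c], 1),
  ([Gen.d], [Gen.d], 1),
  ([Gen.e], [Gen.e], 1),
  ([Gen.f], [Gen.f], 1),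
  ([Gen.h], [Gen.h], 1)]

/-- the relator words -/
def relWords : List (List Gen) := [
  [Gen.b, Gen.b],
  [Gen.b, Gen.c, Gen.b, Gen.c, Gen.b, Gen.c],
  [Gen.b, Gen.d, Gen.b, Gen.d],
  [Gen.b, Gen.e, Gen.b, Gen.e],
  [Gen.b, Gen.h, Gen.b, Gen.h],
  [Gen.b, Gen.f, Gen.b, Gen.f],
  [Gen.c, Gen.b, Gen.c, Gen.b, Gen.c, Gen.b],
  [Gen.c, Gen.c],
  [Gen.c, Gen.d, Gen.c, Gen.d, Gen.c, Gen.d],
  [Gen.c, Gen.e, Gen.c, Gen.e],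
  [Gen.c, Gen.h, Gen.c, Gen.h],
  [Gen.c, Gen.f, Gen.c, Gen.f],
  [Gen.d, Gen.b, Gen.d, Gen.b],
  [Gen.d, Gen.c, Gen.d, Gen.c, Gen.d, Gen.c],
  [Gen.d, Gen.d],
  [Gen.d, Gen.e, Gen.d, Gen.e, Gen.d, Gen.e],
  [Gen.d, Gen.h, Gen.d, Gen.h, Gen.d, Gen.h],
  [Gen.d, Gen.f, Gen.d, Gen.f],
  [Gen.e, Gen.b, Gen.e, Gen.b],
  [Gen.e, Gen.c, Gen.e, Gen.c],
  [Gen.e, Gen.d, Gen.e, Gen.d, Gen.e, Gen.d],
  [Gen.e, Gen.e],
  [Gen.e, Gen.h, Gen.e, Gen.h],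
  [Gen.e, Gen.f, Gen.e, Gen.f, Gen.e, Gen.f],
  [Gen.h, Gen.b, Gen.h, Gen.b],
  [Gen.h, Gen.c, Gen.h, Gen.c],
  [Gen.h, Gen.d, Gen.h, Gen.d, Gen.h, Gen.d],
  [Gen.h, Gen.e, Gen.h, Gen.e],
  [Gen.h, Gen.h],
  [Gen.h, Gen.f, Gen.h, Gen.f],
  [Gen.f, Gen.b, Gen.f, Gen.b],
  [Gen.f, Gen.c, Gen.f, Gen.c],
  [Gen.f, Gen.d, Gen.f, Gen.d],
  [Gen.f, Gen.e, Gen.f, Gen.e, Gen.f, Gen.e],
  [Gen.f, Gen.h, Gen.f, Gen.h],
  [Gen.f, Gen.f]]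

/-- the subgroup generator words -/
def subWords : List (List Gen) := [
  [Gen.c],
  [Gen.d],
  [Gen.e],
  [Gen.f],
  [Gen.h]]

/-- expressions of the further relators -/
def extraE : List (WE Gen) := [
  ]

/-- expressions of the subgroup generators -/
def subE : List (WE Gen) := [
  (WE.of Gen.c),
  (WE.of Gen.d),
  (WE.of Gen.e),
  (WE.of Gen.f),
  (WE.of Gen.h)]

/-- the certificate -/
def C : Cert Gen where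
  par := fun k => Nat.land (treeE k) 63
  gn := fun k => genOf (Nat.land (Nat.shiftRight (treeE k) 6) 15)
  ent := fun x u => Nat.land (entH x u) 63
  rkE := fun x u => Nat.shiftRight (entH x u) 6
  jEk := fun x u => Nat.land (jEc x u) 3
  jEa := fun x u => Nat.land (Nat.shiftRight (jEc x u) 2) 63
  jEp := fun x u => Nat.land (Nat.shiftRight (jEc x u) 8) 255
  jEz := fun x u => Nat.shiftRight (jEc x u) 16
  al := fun k => Nat.land (alH k) 63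
  rkA := fun k => Nat.shiftRight (alH k) 6
  jAx := fun k => genOf (Nat.land (jAc k) 15)
  jA1k := fun k => Nat.land (Nat.shiftRight (jAc k) 4) 3
  jA1a := fun k => Nat.land (Nat.shiftRight (jAc k) 6) 63
  jA1p := fun k => Nat.land (Nat.shiftRight (jAc k) 12) 255
  jA1z := fun k => Nat.land (Nat.shiftRight (jAc k) 20) 63
  jA2k := fun k => Nat.land (Nat.shiftRight (jAc k) 26) 3
  jA2a := fun k => Nat.land (Nat.shiftRight (jAc k) 28) 63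
  jA2p := fun k => Nat.land (Nat.shiftRight (jAc k) 34) 255
  jA2z := fun k => Nat.land (Nat.shiftRight (jAc k) 42) 63
  cycW := fun ci => (nthD cycs ci ([], [], 0)).1
  cycR := fun ci => (nthD cycs ci ([], [], 0)).2.1
  cycL := fun ci => (nthD cycs ci ([], [], 0)).2.2
  cycA := fun ci => Nat.ble 36 ci
  fuel := 2

def NN : ℕ := 27
def nn : ℕ := 27
def RR : ℕ := 163


end

end Cfsg.Agent.Lib.Helper28.Fi22Ord.C27
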