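import Cfsg.Agent.Lib.Helper28.Fi22Ord.C27.ChkAll

set_option autoImplicit false

namespace Cfsg.Agent.Lib.Helper28.Fi22Ord.C27

open Cfsg.Agent.Lib.Helper28.Fi22Sub.P6 (Gen)
open Cfsg.Agent.Lib.Helper28.Fi22Sub
open Cfsg.Spor
open Cfsg.Agent.Lib.Helper28.TC

/-- the relators of the presentation -/
abbrev rels : Set (FreeGroup Gen) := coxRelators P6.edges ∪ {r | r ∈ P6.extra}

/-- the subgroup generators -/
abbrev subS : Set (FreeGroup Gen) :=
  {P6.c, P6.d, P6.e, P6.f, P6.h}

theorem nn_pos : 0 < nn := by decide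

theorem permP_spec (i : ℕ) (hi : i < nn) :
    (∀ x, tf x i < nn ∧ tf x (tf x i) = i) ∧ ∀ w ∈ relWords, act tf w i = i := by
  have h := permP_all i hi
  unfold permP at h
  rw [band_eq_true] at h
  exact ⟨permRowOK_spec tf nn gens mem_gens i h.1, relRowOK_spec tf relWords i h.2⟩

/-- the permutation table -/
noncomputable def T : PermTable Gen nn where
  tf := tf
  bound x i hi := ((permP_spec i hi).1 x).1
  invol x i hi := ((permP_spec i hi).1 x).2

theorem extra_eq : P6.extra = extraE.map WE.evalF := rfl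

theorem coxE_words : ∀ e ∈ coxE P6.edges, e.evalW ∈ relWords := by decide +kernel

theorem extraE_words : ∀ e ∈ extraE, e.evalW ∈ relWords := by decide +kernel

theorem relWords_cover : ∀ w ∈ relWords, ∃ e ∈ coxE P6.edges ++ extraE, e.evalW = w := by decide +kernel

theorem rels_iff (r : FreeGroup Gen) : r ∈ rels ↔ ∃ e ∈ coxE P6.edges ++ extraE, r = e.evalF := by
  constructor
  · rintro (h | h)
    · obtain ⟨e, he, rfl⟩ := (mem_coxRelators_iff _ _).1 h
      exact ⟨e, List.mem_append_left _ he, rfl⟩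
    · have h' : r ∈ P6.extra := h
      rw [extra_eq, List.mem_map] at h'
      obtain ⟨e, he, rfl⟩ := h'
      exact ⟨e, List.mem_append_right _ he, rfl⟩
  · rintro ⟨e, he, rfl⟩
    rcases List.mem_append.1 he with h | h
    · exact Or.inl ((mem_coxRelators_iff _ _).2 ⟨e, h, rfl⟩)
    · refine Or.inr ?_
      show e.evalF ∈ P6.extra
      rw [extra_eq]
      exact List.mem_map_of_mem h

theorem hrel : ∀ r ∈ rels, FreeGroup.lift T.perm r = 1 := by
  intro r hr
  obtain ⟨e, he, rfl⟩ := (rels_iff r).1 hr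
  have hw : e.evalW ∈ relWords := by
    rcases List.mem_append.1 he with h | h
    · exact coxE_words e h
    · exact extraE_words e h
  exact T.lift_eq_one e (fun i hi => (permP_spec i hi).2 _ hw)

theorem subS_iff (s : FreeGroup Gen) : s ∈ subS ↔ ∃ e ∈ subE, s = e.evalF := by
  simp only [subS, subE, Set.mem_insert_iff, Set.mem_singleton_iff, List.mem_cons,
    List.not_mem_nil, or_false, exists_eq_or_imp, exists_eq_left]
  rfl

theorem subE_words : ∀ e ∈ subE, e.evalW ∈ subWords := by decide +kernel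

theorem subWords_cover : ∀ w ∈ subWords, ∃ e ∈ subE, e.evalW = w := by decide +kernel

theorem hsub : ∀ s ∈ subS, FreeGroup.lift T.perm s ⟨0, nn_pos⟩ = ⟨0, nn_pos⟩ := by
  intro s hs
  obtain ⟨e, he, rfl⟩ := (subS_iff s).1 hs
  exact T.lift_fix nn_pos e (nbeq_eq_true.1 (allList_spec _ _ subFix _ (subE_words e he)))

theorem hinv : ∀ x, pval rels x * pval rels x = 1 := by
  intro x
  have hx : x ∈ coxNodes P6.edges := by cases x <;> decide
  have h : (FreeGroup.of x * FreeGroup.of x) ^ coxLabel P6.edges x x ∈ rels :=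
    Or.inl ⟨x, hx, x, hx, rfl⟩
  have h2 := PresentedGroup.one_of_mem h
  simpa [coxLabel, pval, PresentedGroup.of] using h2

theorem cyc_ok : CycOK C := by
  intro ci
  exact nthD_prop cycs ([], [], 0) (fun t => t.2.1 = t.1.reverse ∧ t.2.2 = t.1.length)
    ⟨rfl, rfl⟩ (by decide +kernel) ci

theorem cycs_rel : ∀ ci, ci < relWords.length → (nthD cycs ci ([], [], 0)).1 ∈ relWords := by
  decide +kernel

theorem cycs_sub : ∀ ci, ci < cycs.length → relWords.length ≤ ci →
    (nthD cycs ci ([], [], 0)).1 ∈ subWords := by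
  decide +kernel

theorem cycA_false (ci : ℕ) (h : C.cycA ci = false) : ci < relWords.length := by
  have h' : Nat.ble relWords.length ci = false := h
  by_contra hlt
  rw [Nat.ble_eq_true_of_le (Nat.not_lt.1 hlt)] at h'
  cases h'

theorem cycA_true (ci : ℕ) (h : C.cycA ci = true) : relWords.length ≤ ci :=
  Nat.le_of_ble_eq_true h

theorem hcycR : ∀ ci, C.cycA ci = false → wval (pval rels) (C.cycW ci) = 1 := by
  intro ci h
  have hw : C.cycW ci ∈ relWords := cycs_rel ci (cycA_false ci h)
  obtain ⟨e, he, hew⟩ := relWords_cover _ hw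
  rw [← hew]
  exact wval_pval_eq_one rels hinv e ((rels_iff _).2 ⟨e, he, rfl⟩)

theorem hcycS : ∀ ci, C.cycA ci = true → wval (pval rels) (C.cycW ci) ∈ subH rels subS := by
  intro ci h
  by_cases hlt : ci < cycs.length
  · have hw : C.cycW ci ∈ subWords := cycs_sub ci hlt (cycA_true ci h)
    obtain ⟨e, he, hew⟩ := subWords_cover _ hw
    rw [← hew]
    exact wval_pval_mem rels subS hinv e ((subS_iff _).2 ⟨e, he, rfl⟩)
  · have : C.cycW ci = [] := by
      show (nthD cycs ci ([], [], 0)).1 = []
      rw [nthD_of_le cycs _ ci (Nat.not_lt.1 hlt)]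
    rw [this]
    exact (subH rels subS).one_mem

theorem ent_zero (x : Gen) (u : ℕ) (hu : NNpad ≤ u) : C.ent x u = 0 := by
  have h : entH x u = 0 := by
    unfold entH
    cases x
    · exact look_eq_zero _ _ _ u NNpad hotE0_lt hu
    · exact look_eq_zero _ _ _ u NNpad hotE1_lt hu
    · exact look_eq_zero _ _ _ u NNpad hotE2_lt hu
    · exact look_eq_zero _ _ _ u NNpad hotE3_lt hu
    · exact look_eq_zero _ _ _ u NNpad hotE4_lt hu
    · exact look_eq_zero _ _ _ u NNpad hotE5_lt hu
  show Nat.land (entH x u) _ = 0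
  rw [h]
  exact Nat.zero_and _

theorem al_zero (k : ℕ) (hk : NNpad ≤ k) : C.al k = 0 := by
  have h : alH k = 0 := look_eq_zero _ _ _ k NNpad hotA_lt hk
  show Nat.land (alH k) _ = 0
  rw [h]
  exact Nat.zero_and _

theorem hE : ∀ x u, checkE C x u = true := by
  intro x u
  by_cases hu : u < NNpad
  · have h := factP_all u hu
    unfold factP at h
    rw [band_eq_true] at h
    exact allList_spec _ gens h.1 x (mem_gens x)
  · unfold checkE
    rw [ent_zero x u (Nat.not_lt.1 hu)]
    rfl

theorem hA : ∀ k, checkA C k = true := by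
  intro k
  by_cases hk : k < NNpad
  · have h := factP_all k hk
    unfold factP at h
    rw [band_eq_true, band_eq_true] at h
    exact h.2.1
  · unfold checkA
    rw [al_zero k (Nat.not_lt.1 hk)]
    rfl

theorem NN_le : NN ≤ NNpad := by decide

theorem htree : ∀ k, 0 < k → k < NN → C.par k < k ∧ T.tf (C.gn k) (fin (C.par k)) = fin k := by
  intro k hk hlt
  have h := factP_all k (lt_of_lt_of_le hlt NN_le)
  unfold factP at h
  rw [band_eq_true, band_eq_true] at h
  exact treeRowOK_spec C tf fin k (guard_spec NN _ k h.2.2 hlt) hk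

theorem hclosed : ∀ i, i < nn → ∀ x, rowOf i < NN ∧ fin (rowOf i) = i ∧ C.ent x (rowOf i) ≠ 0 ∧
    norm C RR (C.ent x (rowOf i) - 1) = rowOf (T.tf x i) := by
  intro i hi x
  exact closedRowOK_spec C tf fin rowOf NN RR gens mem_gens i (closedP_all i hi) x

theorem fin_zero : fin 0 = 0 := by decide +kernel

theorem rowOf_zero : rowOf 0 = 0 := by decide +kernel

/-- The coset enumeration: an equivariant bijection between the cosets and `Fin nn`. -/
theorem cosetEquiv :
    ∃ e : (PresentedGroup rels ⧸ subH rels subS) ≃ Fin nn,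
      e ((1 : PresentedGroup rels) : PresentedGroup rels ⧸ subH rels subS) = ⟨0, nn_pos⟩ ∧
      ∀ (g : PresentedGroup rels) (q : PresentedGroup rels ⧸ subH rels subS),
        e (g • q) = (PresentedGroup.toGroup hrel g) (e q) :=
  cosetEquiv_of_cert nn_pos T hrel hsub hinv C cyc_ok hcycR hcycS hE hA NN fin fin_zero htree
    RR rowOf rowOf_zero hclosed

end Cfsg.Agent.Lib.Helper28.Fi22Ord.C27
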